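import Cfsg.Agent.Lib.H17.Y522Ord.Lv10StepsA
import Cfsg.Agent.Lib.H17.Y522Ord.Lv10StepsB
import Cfsg.Agent.Lib.H17.Y522Ord.Lv10StepsC
import Cfsg.Agent.Lib.H17.Y522Ord.Lv10StepsD
import Cfsg.Agent.Lib.H17.Y522Ord.Lv10StepsE
import Cfsg.Agent.Lib.H17.Y522Ord.Lv10StepsF
import Cfsg.Agent.Lib.H17.Y522Ord.Lv10StepsG
import Cfsg.Agent.Lib.H17.Y522Ord.Lv10StepsH
import Cfsg.Agent.Lib.H17.Y522Ord.Lv10StepsI
import Cfsg.Agent.Lib.H17.Y522Ord.Lv10StepsJ
import Cfsg.Agent.Lib.H17.Y522Ord.Lv10Rows

set_option autoImplicit false
set_option maxRecDepth 100000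

/-! # Bound for the relative index, Y522Ord Lv10 (generated) -/

namespace Cfsg.Agent.Lib.H17.Y522Ord.Lv10

open Cfsg.Spor Cfsg.Agent.Lib.H17.CosetCert Cfsg.Agent.Lib.H17.CoxGlue Cfsg.Agent.Lib.H17.Y522Glue Cfsg.Agent.Lib.H17.SubChain Cfsg.Agent.Lib.H17.Y522Ord

theorem bound : Bound words 10 28431 := by
  intro G' _ Q' _ _ γ' hinv q0 hOK hgen
  have h0 := inv_zero F 10 γ' q0
  have h1 := checkSteps_sound F 10 16777216 γ' hinv q0 words hOK steps0 0 1 309 h0 chk0
  rw [len0] at h1
  have h2 := checkSteps_sound F 10 16777216 γ' hinv q0 words hOK steps1 2000 309 659 h1 chk1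
  rw [len1] at h2
  have h3 := checkSteps_sound F 10 16777216 γ' hinv q0 words hOK steps2 4000 659 1060 h2 chk2
  rw [len2] at h3
  have h4 := checkSteps_sound F 10 16777216 γ' hinv q0 words hOK steps3 6000 1060 1459 h3 chk3
  rw [len3] at h4
  have h5 := checkSteps_sound F 10 16777216 γ' hinv q0 words hOK steps4 8000 1459 1860 h4 chk4
  rw [len4] at h5
  have h6 := checkSteps_sound F 10 16777216 γ' hinv q0 words hOK steps5 10000 1860 2288 h5 chk5
  rw [len5] at h6
  have h7 := checkSteps_sound F 10 16777216 γ' hinv q0 words hOK steps6 12000 2288 2734 h6 chk6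
  rw [len6] at h7
  have h8 := checkSteps_sound F 10 16777216 γ' hinv q0 words hOK steps7 14000 2734 3178 h7 chk7
  rw [len7] at h8
  have h9 := checkSteps_sound F 10 16777216 γ' hinv q0 words hOK steps8 16000 3178 3573 h8 chk8
  rw [len8] at h9
  have h10 := checkSteps_sound F 10 16777216 γ' hinv q0 words hOK steps9 18000 3573 3969 h9 chk9
  rw [len9] at h10
  have h11 := checkSteps_sound F 10 16777216 γ' hinv q0 words hOK steps10 20000 3969 4416 h10 chk10
  rw [len10] at h11
  have h12 := checkSteps_sound F 10 16777216 γ' hinv q0 words hOK steps11 22000 4416 4841 h11 chk11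
  rw [len11] at h12
  have h13 := checkSteps_sound F 10 16777216 γ' hinv q0 words hOK steps12 24000 4841 5326 h12 chk12
  rw [len12] at h13
  have h14 := checkSteps_sound F 10 16777216 γ' hinv q0 words hOK steps13 26000 5326 5808 h13 chk13
  rw [len13] at h14
  have h15 := checkSteps_sound F 10 16777216 γ' hinv q0 words hOK steps14 28000 5808 6230 h14 chk14
  rw [len14] at h15
  have h16 := checkSteps_sound F 10 16777216 γ' hinv q0 words hOK steps15 30000 6230 6781 h15 chk15
  rw [len15] at h16
  have h17 := checkSteps_sound F 10 16777216 γ' hinv q0 words hOK steps16 32000 6781 7289 h16 chk16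
  rw [len16] at h17
  have h18 := checkSteps_sound F 10 16777216 γ' hinv q0 words hOK steps17 34000 7289 7749 h17 chk17
  rw [len17] at h18
  have h19 := checkSteps_sound F 10 16777216 γ' hinv q0 words hOK steps18 36000 7749 8222 h18 chk18
  rw [len18] at h19
  have h20 := checkSteps_sound F 10 16777216 γ' hinv q0 words hOK steps19 38000 8222 8802 h19 chk19
  rw [len19] at h20
  have h21 := checkSteps_sound F 10 16777216 γ' hinv q0 words hOK steps20 40000 8802 9353 h20 chk20
  rw [len20] at h21
  have h22 := checkSteps_sound F 10 16777216 γ' hinv q0 words hOK steps21 42000 9353 9819 h21 chk21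
  rw [len21] at h22
  have h23 := checkSteps_sound F 10 16777216 γ' hinv q0 words hOK steps22 44000 9819 10278 h22 chk22
  rw [len22] at h23
  have h24 := checkSteps_sound F 10 16777216 γ' hinv q0 words hOK steps23 46000 10278 10805 h23 chk23
  rw [len23] at h24
  have h25 := checkSteps_sound F 10 16777216 γ' hinv q0 words hOK steps24 48000 10805 11419 h24 chk24
  rw [len24] at h25
  have h26 := checkSteps_sound F 10 16777216 γ' hinv q0 words hOK steps25 50000 11419 11964 h25 chk25
  rw [len25] at h26
  have h27 := checkSteps_sound F 10 16777216 γ' hinv q0 words hOK steps26 52000 11964 12432 h26 chk26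
  rw [len26] at h27
  have h28 := checkSteps_sound F 10 16777216 γ' hinv q0 words hOK steps27 54000 12432 12863 h27 chk27
  rw [len27] at h28
  have h29 := checkSteps_sound F 10 16777216 γ' hinv q0 words hOK steps28 56000 12863 13409 h28 chk28
  rw [len28] at h29
  have h30 := checkSteps_sound F 10 16777216 γ' hinv q0 words hOK steps29 58000 13409 14004 h29 chk29
  rw [len29] at h30
  have h31 := checkSteps_sound F 10 16777216 γ' hinv q0 words hOK steps30 60000 14004 14533 h30 chk30
  rw [len30] at h31
  have h32 := checkSteps_sound F 10 16777216 γ' hinv q0 words hOK steps31 62000 14533 15073 h31 chk31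
  rw [len31] at h32
  have h33 := checkSteps_sound F 10 16777216 γ' hinv q0 words hOK steps32 64000 15073 15552 h32 chk32
  rw [len32] at h33
  have h34 := checkSteps_sound F 10 16777216 γ' hinv q0 words hOK steps33 66000 15552 15989 h33 chk33
  rw [len33] at h34
  have h35 := checkSteps_sound F 10 16777216 γ' hinv q0 words hOK steps34 68000 15989 16505 h34 chk34
  rw [len34] at h35
  have h36 := checkSteps_sound F 10 16777216 γ' hinv q0 words hOK steps35 70000 16505 17079 h35 chk35
  rw [len35] at h36
  have h37 := checkSteps_sound F 10 16777216 γ' hinv q0 words hOK steps36 72000 17079 17590 h36 chk36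
  rw [len36] at h37
  have h38 := checkSteps_sound F 10 16777216 γ' hinv q0 words hOK steps37 74000 17590 18124 h37 chk37
  rw [len37] at h38
  have h39 := checkSteps_sound F 10 16777216 γ' hinv q0 words hOK steps38 76000 18124 18588 h38 chk38
  rw [len38] at h39
  have h40 := checkSteps_sound F 10 16777216 γ' hinv q0 words hOK steps39 78000 18588 19017 h39 chk39
  rw [len39] at h40
  have h41 := checkSteps_sound F 10 16777216 γ' hinv q0 words hOK steps40 80000 19017 19467 h40 chk40
  rw [len40] at h41
  have h42 := checkSteps_sound F 10 16777216 γ' hinv q0 words hOK steps41 82000 19467 19962 h41 chk41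
  rw [len41] at h42
  have h43 := checkSteps_sound F 10 16777216 γ' hinv q0 words hOK steps42 84000 19962 20123 h42 chk42
  rw [len42] at h43
  have h44 := checkSteps_sound F 10 16777216 γ' hinv q0 words hOK steps43 86000 20123 20123 h43 chk43
  rw [len43] at h44
  have h45 := checkSteps_sound F 10 16777216 γ' hinv q0 words hOK steps44 88000 20123 20123 h44 chk44
  rw [len44] at h45
  have h46 := checkSteps_sound F 10 16777216 γ' hinv q0 words hOK steps45 90000 20123 20444 h45 chk45
  rw [len45] at h46
  have h47 := checkSteps_sound F 10 16777216 γ' hinv q0 words hOK steps46 92000 20444 20870 h46 chk46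
  rw [len46] at h47
  have h48 := checkSteps_sound F 10 16777216 γ' hinv q0 words hOK steps47 94000 20870 21238 h47 chk47
  rw [len47] at h48
  have h49 := checkSteps_sound F 10 16777216 γ' hinv q0 words hOK steps48 96000 21238 21548 h48 chk48
  rw [len48] at h49
  have h50 := checkSteps_sound F 10 16777216 γ' hinv q0 words hOK steps49 98000 21548 21889 h49 chk49
  rw [len49] at h50
  have h51 := checkSteps_sound F 10 16777216 γ' hinv q0 words hOK steps50 100000 21889 22231 h50 chk50
  rw [len50] at h51
  have h52 := checkSteps_sound F 10 16777216 γ' hinv q0 words hOK steps51 102000 22231 22663 h51 chk51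
  rw [len51] at h52
  have h53 := checkSteps_sound F 10 16777216 γ' hinv q0 words hOK steps52 104000 22663 23052 h52 chk52
  rw [len52] at h53
  have h54 := checkSteps_sound F 10 16777216 γ' hinv q0 words hOK steps53 106000 23052 23378 h53 chk53
  rw [len53] at h54
  have h55 := checkSteps_sound F 10 16777216 γ' hinv q0 words hOK steps54 108000 23378 23725 h54 chk54
  rw [len54] at h55
  have h56 := checkSteps_sound F 10 16777216 γ' hinv q0 words hOK steps55 110000 23725 24016 h55 chk55
  rw [len55] at h56
  have h57 := checkSteps_sound F 10 16777216 γ' hinv q0 words hOK steps56 112000 24016 24395 h56 chk56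
  rw [len56] at h57
  have h58 := checkSteps_sound F 10 16777216 γ' hinv q0 words hOK steps57 114000 24395 24842 h57 chk57
  rw [len57] at h58
  have h59 := checkSteps_sound F 10 16777216 γ' hinv q0 words hOK steps58 116000 24842 25180 h58 chk58
  rw [len58] at h59
  have h60 := checkSteps_sound F 10 16777216 γ' hinv q0 words hOK steps59 118000 25180 25485 h59 chk59
  rw [len59] at h60
  have h61 := checkSteps_sound F 10 16777216 γ' hinv q0 words hOK steps60 120000 25485 25816 h60 chk60
  rw [len60] at h61
  have h62 := checkSteps_sound F 10 16777216 γ' hinv q0 words hOK steps61 122000 25816 26188 h61 chk61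
  rw [len61] at h62
  have h63 := checkSteps_sound F 10 16777216 γ' hinv q0 words hOK steps62 124000 26188 26645 h62 chk62
  rw [len62] at h63
  have h64 := checkSteps_sound F 10 16777216 γ' hinv q0 words hOK steps63 126000 26645 26975 h63 chk63
  rw [len63] at h64
  have h65 := checkSteps_sound F 10 16777216 γ' hinv q0 words hOK steps64 128000 26975 27288 h64 chk64
  rw [len64] at h65
  have h66 := checkSteps_sound F 10 16777216 γ' hinv q0 words hOK steps65 130000 27288 27623 h65 chk65
  rw [len65] at h66
  have h67 := checkSteps_sound F 10 16777216 γ' hinv q0 words hOK steps66 132000 27623 28037 h66 chk66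
  rw [len66] at h67
  have h68 := checkSteps_sound F 10 16777216 γ' hinv q0 words hOK steps67 134000 28037 28452 h67 chk67
  rw [len67] at h68
  have h69 := checkSteps_sound F 10 16777216 γ' hinv q0 words hOK steps68 136000 28452 28739 h68 chk68
  rw [len68] at h69
  have h70 := checkSteps_sound F 10 16777216 γ' hinv q0 words hOK steps69 138000 28739 29077 h69 chk69
  rw [len69] at h70
  have h71 := checkSteps_sound F 10 16777216 γ' hinv q0 words hOK steps70 140000 29077 29472 h70 chk70
  rw [len70] at h71
  have h72 := checkSteps_sound F 10 16777216 γ' hinv q0 words hOK steps71 142000 29472 29892 h71 chk71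
  rw [len71] at h72
  have h73 := checkSteps_sound F 10 16777216 γ' hinv q0 words hOK steps72 144000 29892 30172 h72 chk72
  rw [len72] at h73
  have h74 := checkSteps_sound F 10 16777216 γ' hinv q0 words hOK steps73 146000 30172 30512 h73 chk73
  rw [len73] at h74
  have h75 := checkSteps_sound F 10 16777216 γ' hinv q0 words hOK steps74 148000 30512 30997 h74 chk74
  rw [len74] at h75
  have h76 := checkSteps_sound F 10 16777216 γ' hinv q0 words hOK steps75 150000 30997 31306 h75 chk75
  rw [len75] at h76
  have h77 := checkSteps_sound F 10 16777216 γ' hinv q0 words hOK steps76 152000 31306 31639 h76 chk76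
  rw [len76] at h77
  have h78 := checkSteps_sound F 10 16777216 γ' hinv q0 words hOK steps77 154000 31639 32118 h77 chk77
  rw [len77] at h78
  have h79 := checkSteps_sound F 10 16777216 γ' hinv q0 words hOK steps78 156000 32118 32440 h78 chk78
  rw [len78] at h79
  have h80 := checkSteps_sound F 10 16777216 γ' hinv q0 words hOK steps79 158000 32440 32795 h79 chk79
  rw [len79] at h80
  have h81 := checkSteps_sound F 10 16777216 γ' hinv q0 words hOK steps80 160000 32795 33280 h80 chk80
  rw [len80] at h81
  have h82 := checkSteps_sound F 10 16777216 γ' hinv q0 words hOK steps81 162000 33280 33566 h81 chk81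
  rw [len81] at h82
  have h83 := checkSteps_sound F 10 16777216 γ' hinv q0 words hOK steps82 164000 33566 33952 h82 chk82
  rw [len82] at h83
  have h84 := checkSteps_sound F 10 16777216 γ' hinv q0 words hOK steps83 166000 33952 34350 h83 chk83
  rw [len83] at h84
  have h85 := checkSteps_sound F 10 16777216 γ' hinv q0 words hOK steps84 168000 34350 34653 h84 chk84
  rw [len84] at h85
  have h86 := checkSteps_sound F 10 16777216 γ' hinv q0 words hOK steps85 170000 34653 35057 h85 chk85
  rw [len85] at h86
  have h87 := checkSteps_sound F 10 16777216 γ' hinv q0 words hOK steps86 172000 35057 35350 h86 chk86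
  rw [len86] at h87
  have h88 := checkSteps_sound F 10 16777216 γ' hinv q0 words hOK steps87 174000 35350 35699 h87 chk87
  rw [len87] at h88
  have h89 := checkSteps_sound F 10 16777216 γ' hinv q0 words hOK steps88 176000 35699 36033 h88 chk88
  rw [len88] at h89
  have h90 := checkSteps_sound F 10 16777216 γ' hinv q0 words hOK steps89 178000 36033 36328 h89 chk89
  rw [len89] at h90
  have h91 := checkSteps_sound F 10 16777216 γ' hinv q0 words hOK steps90 180000 36328 36358 h90 chk90
  rw [len90] at h91
  have h92 := checkSteps_sound F 10 16777216 γ' hinv q0 words hOK steps91 182000 36358 36358 h91 chk91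
  rw [len91] at h92
  have := card_le F 10 16777216 γ' hinv q0 183503 36358 h92 rows mask mask_ok mask_zero rows_ok hgen
  rw [rows_length] at this
  exact this

/-- the relative index of the subgroup on the first 8 letters in that on the first 10 -/
theorem level : (K γo 8).relIndex (K γo 10) ≠ 0 ∧ (K γo 8).relIndex (K γo 10) ≤ 28431 := by
  apply SubChain.level γo γo_mul_self words 10 8 28431 bound
  intro v hv
  obtain ⟨h1, h2, h3⟩ := words_spec v hv
  refine ⟨h1, fun hr => rel_trivial v.1 (h2 hr), fun hr => ?_⟩
  obtain ⟨x, hx, hvx⟩ := h3 hr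
  rw [hvx]
  simpa using mem_K γo hx

end Cfsg.Agent.Lib.H17.Y522Ord.Lv10
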