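import Cfsg.Agent.Lib.H17.Y522Ord.Lv4Facts

set_option autoImplicit false
set_option maxRecDepth 100000

/-! # Steps of the coset enumeration Y522Ord Lv4, part 0 (generated) -/

namespace Cfsg.Agent.Lib.H17.Y522Ord.Lv4

open Cfsg.Spor Cfsg.Agent.Lib.H17.CosetCert Cfsg.Agent.Lib.H17.CoxGlue Cfsg.Agent.Lib.H17.Y522Glue Cfsg.Agent.Lib.H17.SubChain Cfsg.Agent.Lib.H17.Y522Ord

/-- steps 0 … -/
def steps0 : List ℕ := [0x7, 0x8, 0x9, 0x0, 0x3000003000000000001000002000000000003, 0x3000003000002000001000002000000000006, 0x0, 0x3000001000003000006000006000004000001000001000005, 0x0, 0x6000004000006000008000008000004000001000002000001, 0x7000008000008000002000001000002000003, 0x0, 0x500000600000b00000b000006000003000002000001000004, 0x700000b00000b000002000001000002000006, 0x0, 0xb00000e000008000001000002000002000002, 0xa00000e00000e000002000001000003000006, 0x0, 0xc00000f00001100001100000f000003000002000004000001, 0xe00000900000e000011000011000004000001000005000004, 0x0, 0x14000014000012000001000002000006000003, 0x10000011000014000014000011000003000002000005000005, 0x14000014000013000001000002000006000006]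

theorem chk0 : checkSteps F 4 16777216 words steps0 0 1 = some 8 := by
  decide +kernel

theorem len0 : steps0.length = 24 := by
  decide +kernel

end Cfsg.Agent.Lib.H17.Y522Ord.Lv4
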