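import Cfsg.Agent.Lib.H17.Y522Ord.Base

set_option autoImplicit false
set_option maxRecDepth 100000

/-! # Facts of the coset enumeration Y522Ord Lv5 (generated) -/

namespace Cfsg.Agent.Lib.H17.Y522Ord.Lv5

open Cfsg.Spor Cfsg.Agent.Lib.H17.CosetCert Cfsg.Agent.Lib.H17.CoxGlue Cfsg.Agent.Lib.H17.Y522Glue Cfsg.Agent.Lib.H17.SubChain Cfsg.Agent.Lib.H17.Y522Ord

/-- the packed facts -/
def factTree : BT := .node (.leaf 0x399299199099498388188088287377477077176466266056364455255155353444244144043433233132322422022221311111011410300200100000) (.leaf 0x0)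

/-- the fact with a given number -/
noncomputable def F (f : ℕ) : ℕ × ℕ × ℕ :=
  factOf factTree 1 1024 12 4096 4 16 f

/-- the words of the enumeration -/
def words : WT := .node (.node (.node (.node (.node (.leaf [0, 1, 0, 1, 0, 1] true) (.leaf [2, 2] true)) (.node (.leaf [2, 3, 2, 3] true) (.nil))) (.node (.node (.leaf [1, 2, 1, 2, 1, 2] true) (.nil)) (.node (.leaf [2] false) (.nil)))) (.node (.node (.node (.leaf [0, 4, 0, 4] true) (.leaf [4, 4] true)) (.node (.leaf [0] false) (.nil))) (.node (.node (.leaf [1, 3, 1, 3, 1, 3] true) (.nil)) (.node (.leaf [0, 0] true) (.nil))))) (.node (.node (.node (.node (.leaf [0, 2, 0, 2] true) (.leaf [3, 3] true)) (.node (.leaf [4, 3, 4, 3] true) (.nil))) (.node (.node (.leaf [1, 4, 1, 4] true) (.nil)) (.node (.leaf [3] false) (.nil)))) (.node (.node (.node (.leaf [0, 3, 0, 3] true) (.leaf [] true)) (.node (.leaf [1] false) (.nil))) (.node (.node (.leaf [2, 4, 2, 4, 2, 4] true) (.nil)) (.node (.leaf [1, 1] true) (.nil)))))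

theorem words_spec : ∀ v ∈ words.toList, (∀ x ∈ v.1, x < 5) ∧ (v.2 = true → v.1.map ι ∈ relW) ∧
    (v.2 = false → ∃ x < 4, v.1 = [x]) := by
  decide

end Cfsg.Agent.Lib.H17.Y522Ord.Lv5
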