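import Cfsg.Agent.Lib.H17.Y522Ord.Lv5Facts

set_option autoImplicit false
set_option maxRecDepth 100000

/-! # Steps of the coset enumeration Y522Ord Lv5, part 0 (generated) -/

namespace Cfsg.Agent.Lib.H17.Y522Ord.Lv5

open Cfsg.Spor Cfsg.Agent.Lib.H17.CosetCert Cfsg.Agent.Lib.H17.CoxGlue Cfsg.Agent.Lib.H17.Y522Glue Cfsg.Agent.Lib.H17.SubChain Cfsg.Agent.Lib.H17.Y522Ord

/-- steps 0 … -/
def steps0 : List ℕ := [0xb, 0xc, 0xd, 0xe, 0x0, 0x4000004000000000001000002000000000003, 0x4000004000001000001000002000000000006, 0x300000400000400000200000100000000000a, 0x0, 0x8000008000005000001000002000001000002, 0x4000002000004000008000008000004000001000001000008, 0x7000008000008000002000001000001000009, 0x0, 0x800000600000800000c00000c000004000001000002000005, 0xa00000c00000c000002000001000002000006, 0x0, 0xc00000900000c00000f00000f000004000001000003000001, 0xd00000f00000f000002000001000003000002, 0xe00000f00000f000002000001000003000003, 0x0, 0xb00000c00001300001300000c000003000002000002000007, 0x1300001300000d000001000002000003000009, 0x1300001300000e00000100000200000300000a, 0x0, 0x1300001700000f000001000002000003000004, 0x17000017000011000001000002000004000009,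 0x1700001700001200000100000200000400000a, 0x0, 0x1400001800001b00001b000018000003000002000005000001, 0x1a00001b00001b000002000001000006000006, 0x1700001000001700001b00001b000004000001000006000007, 0x0, 0x1f00001f00001c000001000002000007000002, 0x1900001b00001f00001f00001b000003000002000006000005, 0x1e00001f00001f000002000001000007000009, 0x0, 0x23000023000020000001000002000008000003, 0x23000023000021000001000002000008000006, 0x1d00001f00002300002300001f000003000002000007000008, 0x2200002300002300000200000100000800000a]

theorem chk0 : checkSteps F 5 16777216 words steps0 0 1 = some 10 := by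
  decide +kernel

theorem len0 : steps0.length = 40 := by
  decide +kernel

end Cfsg.Agent.Lib.H17.Y522Ord.Lv5
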