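import Cfsg.Agent.Lib.H17.Y522Ord.Lv6Facts

set_option autoImplicit false
set_option maxRecDepth 100000

/-! # Final table of the coset enumeration Y522Ord Lv6 (generated) -/

namespace Cfsg.Agent.Lib.H17.Y522Ord.Lv6

open Cfsg.Spor Cfsg.Agent.Lib.H17.CosetCert Cfsg.Agent.Lib.H17.CoxGlue Cfsg.Agent.Lib.H17.Y522Glue Cfsg.Agent.Lib.H17.SubChain Cfsg.Agent.Lib.H17.Y522Ord

/-- rows 0 … -/
def rows0 : List ℕ := [0x5000004000003000002000001000000000000, 0x500000800000900000700000600000a000001, 0xb00000d00000e00000c00000f00000a000002, 0x1000001200001700001300000f000011000003, 0x1400002000001c000013000016000015000004, 0x1800001b00001700001f00001a000019000005, 0x1d00002900001c00001f00002500001e000006, 0x2100002000002d000024000023000022000007, 0x2600003200002800002700002500002e000008, 0x2a00002900002d00002c00003400002b000009, 0x3a00003600003100003000002f00002e00000a, 0x3300003200003500003f00003400003700000b, 0x4800003600003900004400003800003700000c, 0x3a00004b00003e00003d00003c00003b00000d, 0x4000004200004300003f00004100004500000e, 0x5100004600004700004400004d00004500000f, 0x4800004b00004c00005300004a000049000010, 0x5b00005000005600004f00004d00004e000011,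 0x5100005400005500005300005c000052000012, 0x5f00005a000056000059000058000057000013, 0x5b00005e00006300005d00005c000064000014, 0x5f000062000063000061000060000069000015, 0x6500006800006d000067000066000064000016, 0x6a00006c00006d00006b00006e000069000017, 0x6f00007100007200007300006e000070000018, 0x74000078000077000073000076000075000019, 0x7900007800007d00007c00007b00007a00001a]

/-- the mask of the final nodes -/
def mask : ℕ := 0x7ffffff

/-- all rows -/
def rows : List ℕ := rows0

theorem rows0_ok : checkRows F 6 16777216 126 mask rows0 = true := by
  decide +kernel

theorem rows_ok : checkRows F 6 16777216 126 mask rows = true := rows0_ok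

theorem mask_ok : maskOf 16777216 rows 0 = mask := by
  decide +kernel

theorem mask_zero : tb mask 0 = true := by
  decide +kernel

theorem rows_length : rows.length = 27 := by
  decide +kernel

end Cfsg.Agent.Lib.H17.Y522Ord.Lv6
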