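import Cfsg.Agent.Lib.H17.Y522Ord.Base

set_option autoImplicit false
set_option maxRecDepth 100000

/-! # Facts of the coset enumeration Y522Ord Lv6 (generated) -/

namespace Cfsg.Agent.Lib.H17.Y522Ord.Lv6

open Cfsg.Spor Cfsg.Agent.Lib.H17.CosetCert Cfsg.Agent.Lib.H17.CoxGlue Cfsg.Agent.Lib.H17.Y522Glue Cfsg.Agent.Lib.H17.SubChain Cfsg.Agent.Lib.H17.Y522Ord

/-- the packed facts -/
def factTree : BT := .node (.leaf 0x3d68b5a1d6835a5d693593ce47390ce57392ce0f184c603185c607173b5d2f72bdd6f70bd52d62b586d65b582d43a552b52ad46b55acd2942a506545a4527329cc67309cce7139492522848252593d23128c423118bce1046c0610084160c37bd1ef073c9ec37391ce17395ce272cdad26b45ad06b55aa363058c05b118a35ac52b55ad168352894a152814833a492904a55294498d08242150814188e7139c0e7539d0e422980c65318cc442944a502954a5328c4840211484220d063018d4631188c424108842510804130850212084421508100030008001000000) (.leaf 0x0)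

/-- the fact with a given number -/
noncomputable def F (f : ℕ) : ℕ × ℕ × ℕ :=
  factOf factTree 1 1024 14 16384 5 32 f

/-- the words of the enumeration -/
def words : WT := .node (.node (.node (.node (.node (.leaf [5, 0, 5, 0, 5, 0] true) (.leaf [1] false)) (.node (.leaf [0, 3, 0, 3] true) (.leaf [4, 4] true))) (.node (.node (.leaf [5, 3, 5, 3] true) (.leaf [0, 0] true)) (.node (.leaf [2, 4, 2, 4, 2, 4] true) (.nil)))) (.node (.node (.node (.leaf [5, 2, 5, 2] true) (.leaf [3] false)) (.node (.leaf [1, 4, 1, 4] true) (.leaf [] true))) (.node (.node (.leaf [0, 2, 0, 2] true) (.leaf [2, 2] true)) (.node (.leaf [4, 3, 4, 3] true) (.nil))))) (.node (.node (.node (.node (.leaf [5, 1, 5, 1] true) (.leaf [2] false)) (.node (.leaf [1, 2, 1, 2, 1, 2] true) (.leaf [5, 5] true))) (.node (.node (.leaf [0, 1, 0, 1, 0, 1] true) (.leaf [1, 1] true)) (.node (.leaf [2, 3, 2, 3] true) (.nil)))) (.node (.node (.node (.leaf [5, 4, 5, 4] true) (.leaf [4] false)) (.node (.leaf [1, 3,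 1, 3, 1, 3] true) (.nil))) (.node (.node (.leaf [0, 4, 0, 4] true) (.leaf [3, 3] true)) (.node (.leaf [0] false) (.nil)))))

theorem words_spec : ∀ v ∈ words.toList, (∀ x ∈ v.1, x < 6) ∧ (v.2 = true → v.1.map ι ∈ relW) ∧
    (v.2 = false → ∃ x < 5, v.1 = [x]) := by
  decide

end Cfsg.Agent.Lib.H17.Y522Ord.Lv6
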