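import Cfsg.Agent.Lib.H17.Y522Ord.Lv7Facts

set_option autoImplicit false
set_option maxRecDepth 100000

/-! # Final table of the coset enumeration Y522Ord Lv7 (generated) -/

namespace Cfsg.Agent.Lib.H17.Y522Ord.Lv7

open Cfsg.Spor Cfsg.Agent.Lib.H17.CosetCert Cfsg.Agent.Lib.H17.CoxGlue Cfsg.Agent.Lib.H17.Y522Glue Cfsg.Agent.Lib.H17.SubChain Cfsg.Agent.Lib.H17.Y522Ord

/-- rows 0 … -/
def rows0 : List ℕ := [0x6000005000004000003000002000001000000000000, 0x600000c00000a00000b000009000008000007000001, 0xd00000c00001000001100000f00000e000012000002, 0x13000014000016000017000015000018000012000003, 0x1900001a00001c00002200001d00001800001b000004, 0x1e00001f00002d00002800001d000021000020000005, 0x2300002400002700002200002c000026000025000006, 0x2900002a00003800002800002c00003300002b000007, 0x2e00002f00002d00003d000032000031000030000008, 0x3400003500004300003700003600003300003e000009, 0x3900003a00003800003d00003c00004600003b00000a, 0x3f00004d00004800004200004100004000003e00000b, 0x4400004500004300004700005200004600004a00000c, 0x4900005d00004800004c00005800004b00004a00000d, 0x6200004d00006000005100005000004f00004e00000e, 0x5300005400005600005700005200005500005a00000f,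 0x5900006d00005b00005c00005800006800005a000010, 0x7200005d00006000006100006f00005f00005e000011, 0x62000063000076000067000066000065000064000012, 0x6900007e00006c00007800006b00006800006a000013, 0x8200006d00007000007100006f00007f00006e000014, 0x72000073000076000077000085000075000074000015, 0x7900008800007d00007800007c00007b00007a000016, 0x9200007e00008100008c00008000007f00008d000017, 0x82000083000086000087000085000094000084000018, 0x9c00008800008b00008c00008a000089000097000019, 0xa200008e00009100009b00009000008f00008d00001a, 0x920000930000960000a10000950000940000a300001b, 0xac00009800009a00009b0000990000a700009700001c, 0x9c00009d0000a00000a100009f00009e0000ad00001d, 0xa20000b10000a60000b00000a50000a40000a300001e, 0xbc0000a80000aa0000ab0000b70000a70000a900001f, 0xac0000c10000af0000b00000ae0000be0000ad000020, 0xb20000b10000b60000c60000b50000b40000b3000021, 0xcd0000b80000c70000bb0000b70000ba0000b9000022, 0xbc0000d20000bf0000c00000d00000be0000bd000023, 0xc20000c10000c50000c60000c40000d40000c3000024, 0xd70000c80000c70000cc0000cb0000ca0000c9000025, 0xcd0000dd0000db0000d10000d00000cf0000ce000026, 0xd30000d20000d50000d60000e00000d40000e2000027, 0xd70000e80000db0000dc0000da0000d90000d8000028,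 0xde0000dd0000ec0000e10000e00000df0000ee000029, 0xe30000e40000e60000e70000f10000e50000e200002a, 0xe90000e80000ec0000ed0000eb0000ea0000f300002b, 0xef0000f00000f70000f20000f10000f90000ee00002c, 0xf40000f50000f70000f80000f60000fe0000f300002d, 0xfa0000fb0001020001030000fd0000f90000fc00002e, 0xff00010000010200010f0001090000fe00010100002f, 0x104000105000114000103000108000107000106000030, 0x10a00010b00010e00011500010900010d00010c000031, 0x11000011100011400010f000119000113000112000032, 0x11600011700011a00011500011900011b000118000033, 0x11c00011d00011f00012000011e00011b000121000034, 0x122000127000125000126000124000123000121000035, 0x12d00012700012b00012c00012a000129000128000036, 0x12d00012e00013200013300013100013000012f000037]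

/-- the mask of the final nodes -/
def mask : ℕ := 0xffffffffffffff

/-- all rows -/
def rows : List ℕ := rows0

theorem rows0_ok : checkRows F 7 16777216 308 mask rows0 = true := by
  decide +kernel

theorem rows_ok : checkRows F 7 16777216 308 mask rows = true := rows0_ok

theorem mask_ok : maskOf 16777216 rows 0 = mask := by
  decide +kernel

theorem mask_zero : tb mask 0 = true := by
  decide +kernel

theorem rows_length : rows.length = 56 := by
  decide +kernel

end Cfsg.Agent.Lib.H17.Y522Ord.Lv7
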