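import Cfsg.Agent.Lib.H17.Y522Ord.Base

set_option autoImplicit false
set_option maxRecDepth 100000

/-! # Facts of the coset enumeration Y522Ord Lv7 (generated) -/

namespace Cfsg.Agent.Lib.H17.Y522Ord.Lv7

open Cfsg.Spor Cfsg.Agent.Lib.H17.CosetCert Cfsg.Agent.Lib.H17.CoxGlue Cfsg.Agent.Lib.H17.Y522Glue Cfsg.Agent.Lib.H17.SubChain Cfsg.Agent.Lib.H17.Y522Ord

/-- the packed facts -/
def factTree : BT := .node (.leaf 0x3df74df72df71df70df75df76df63db64db62db61db60db65db53d754d752d751d756d750d743d344d342d345d346d341d334cf32cb30cf35cf36cf33cf14c321cb20cb25cb26cb23caf4c711c710c715c716c712c6f2c301c300c305c306c303c2e4baf0bef5bef6bef1bed2bae0bae5bae6bae1bac3b6d4b2d2b6d5b6d6b6d0b6b3b2c2aac5b2c6b2c0b293aeb4a6b2aeb1aeb6aeb5ae83aaa4aaa1aaa5aaa6aaa0aa73a6929e91a696a695a663a2849a82a281a280a286a2539e749e7192769e759e339a628e619a609a669a239652965196509655965496238644924292409246924592038e348e3182308e368df38a218a208a258a2289f48612861186108616861585e37a0482028200760681c37df47df07df57df17dc479e279e179e06de679a36dd475d275d1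75d575d6759369c471c271c571c071946db26db161b56db66d7469a269a169a569a069735d9465926591659565636184618255806185618661445d725d7151755d34596259615960596659635933555449515550555555565513514451424540514551044d324d304d364d314d034922492149204925492648e3451439114510451544d3410441003d06410240d33cf43cf13cf53cf63cf23cc338e238e138e038e538b334d134d030d634d434b330c128c530c630c430932cb22cb12cb62cb02c9320a228a028a528a628a428732492249524962491247220812080208520862084205218701c751c761c731c5418611860186518661863184114501455145614521444104010451046104110330c340c320c350c360c300c2308240822082108260825081304140412041104100416040500040003000200010000000) (.leaf 0x0)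

/-- the fact with a given number -/
noncomputable def F (f : ℕ) : ℕ × ℕ × ℕ :=
  factOf factTree 1 1024 16 65536 6 64 f

/-- the words of the enumeration -/
def words : WT := .node (.node (.node (.node (.node (.node (.leaf [6, 5, 6, 5, 6, 5] true) (.leaf [5, 5] true)) (.node (.leaf [1, 4, 1, 4] true) (.nil))) (.node (.node (.leaf [5, 2, 5, 2] true) (.nil)) (.node (.leaf [3] false) (.nil)))) (.node (.node (.node (.leaf [6, 4, 6, 4] true) (.nil)) (.node (.leaf [4, 3, 4, 3] true) (.nil))) (.node (.node (.leaf [0, 2, 0, 2] true) (.nil)) (.node (.leaf [1, 1] true) (.nil))))) (.node (.node (.node (.node (.leaf [6, 1, 6, 1] true) (.leaf [] true)) (.node (.leaf [2, 4, 2, 4, 2, 4] true) (.nil))) (.node (.node (.leaf [5, 3, 5, 3] true) (.nil)) (.node (.leaf [5] false) (.nil)))) (.node (.node (.node (.leaf [5, 0, 5, 0, 5, 0] true) (.nil)) (.node (.leaf [1] false) (.nil))) (.node (.node (.leaf [0, 3, 0, 3] true) (.nil)) (.node (.leaf [3, 3] true) (.nil)))))) (.node (.node (.node (.node (.node (.leaf [6, 0, 6, 0] true)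 (.leaf [6, 6] true)) (.node (.leaf [1, 3, 1, 3, 1, 3] true) (.nil))) (.node (.node (.leaf [5, 4, 5, 4] true) (.nil)) (.node (.leaf [4] false) (.nil)))) (.node (.node (.node (.leaf [6, 3, 6, 3] true) (.nil)) (.node (.leaf [0] false) (.nil))) (.node (.node (.leaf [0, 4, 0, 4] true) (.nil)) (.node (.leaf [2, 2] true) (.nil))))) (.node (.node (.node (.node (.leaf [6, 2, 6, 2] true) (.nil)) (.node (.leaf [2, 3, 2, 3] true) (.nil))) (.node (.node (.leaf [0, 1, 0, 1, 0, 1] true) (.nil)) (.node (.leaf [0, 0] true) (.nil)))) (.node (.node (.node (.leaf [5, 1, 5, 1] true) (.nil)) (.node (.leaf [2] false) (.nil))) (.node (.node (.leaf [1, 2, 1, 2, 1, 2] true) (.nil)) (.node (.leaf [4, 4] true) (.nil))))))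

theorem words_spec : ∀ v ∈ words.toList, (∀ x ∈ v.1, x < 7) ∧ (v.2 = true → v.1.map ι ∈ relW) ∧
    (v.2 = false → ∃ x < 6, v.1 = [x]) := by
  decide

end Cfsg.Agent.Lib.H17.Y522Ord.Lv7
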