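import Cfsg.Agent.Lib.H17.Y522Ord.Upper
import Cfsg.Agent.Lib.H17.Y522Q.Sgs

set_option autoImplicit false
set_option maxRecDepth 100000

/-! # The order of the presented group Y522, faithfulness of the action on 1080 points, and the
word problem by tracing the base (generated) -/

namespace Cfsg.Agent.Lib.H17.Y522Ord

open Cfsg.Spor Cfsg.Agent.Lib.H17.CosetCert Cfsg.Agent.Lib.H17.CoxGlue Cfsg.Agent.Lib.H17.Y522Glue Cfsg.Agent.Lib.H17.Sgs

theorem finite_G : Finite G := Nat.finite_of_card_ne_zero card_le.1.ne'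

theorem card_eq_and_injective :
    Nat.card G = 9904359628800 ∧ Nat.card Cfsg.Agent.Lib.H17.Y522Q.P = 9904359628800 ∧ Function.Injective Cfsg.Agent.Lib.H17.Y522Q.φ := by
  haveI := finite_G
  have h1 := card_le.2
  have h2 := Cfsg.Agent.Lib.H17.Y522Q.card_ge
  have hs : Function.Surjective Cfsg.Agent.Lib.H17.Y522Q.φ.rangeRestrict :=
    MonoidHom.rangeRestrict_surjective _
  have h3 : Nat.card Cfsg.Agent.Lib.H17.Y522Q.P ≤ Nat.card G :=
    Nat.card_le_card_of_surjective _ hs
  refine ⟨le_antisymm h1 (le_trans h2 h3), le_antisymm (le_trans h3 h1) h2, ?_⟩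
  have hb := hs.bijective_of_nat_card_le (le_trans h1 h2)
  intro x y hxy
  apply hb.1
  exact Subtype.ext hxy

theorem card_eq : Nat.card G = 9904359628800 := card_eq_and_injective.1

theorem card_P : Nat.card Cfsg.Agent.Lib.H17.Y522Q.P = 9904359628800 := card_eq_and_injective.2.1

theorem φ_injective : Function.Injective Cfsg.Agent.Lib.H17.Y522Q.φ := card_eq_and_injective.2.2

/-- the pointwise stabiliser of the base is trivial -/
theorem stab_trivial : stabL Cfsg.Agent.Lib.H17.Y522Q.P.subtype Cfsg.Agent.Lib.H17.Y522Q.sbase = ⊥ := by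
  have h := Cfsg.Agent.Lib.H17.Y522Q.card_ge_stab
  rw [card_P] at h
  have hc : Nat.card (stabL Cfsg.Agent.Lib.H17.Y522Q.P.subtype Cfsg.Agent.Lib.H17.Y522Q.sbase) ≤ 1 := by
    by_contra hcon
    push_neg at hcon
    have h2 : 9904359628800 * 2 ≤ 9904359628800 * Nat.card (stabL Cfsg.Agent.Lib.H17.Y522Q.P.subtype Cfsg.Agent.Lib.H17.Y522Q.sbase) :=
      Nat.mul_le_mul_left _ hcon
    have h3 : 9904359628800 * 2 ≤ 9904359628800 := le_trans h2 h
    omega
  exact (Subgroup.card_le_one_iff_eq_bot _).mp hc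

/-- the element of a word in the letters -/
noncomputable def e (L : List ℕ) : G := (L.map fun x => PresentedGroup.of (gen x)).prod

theorem e_nil : e [] = 1 := rfl

theorem e_cons (x : ℕ) (L : List ℕ) : e (x :: L) = PresentedGroup.of (gen x) * e L := by
  unfold e
  rw [List.map_cons, List.prod_cons]

theorem e_append (L1 L2 : List ℕ) : e (L1 ++ L2) = e L1 * e L2 := by
  unfold e
  rw [List.map_append, List.prod_append]

theorem e_singleton (x : ℕ) : e [x] = PresentedGroup.of (gen x) := by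
  rw [e_cons, e_nil, mul_one]

theorem e_reverse (L : List ℕ) : e L.reverse = (e L)⁻¹ := by
  unfold e
  rw [List.map_reverse]
  exact prod_reverse_of_invol (fun x => (PresentedGroup.of (gen x) : G)) (fun x => of_mul_self _) L

/-- the tables of a word -/
def tw (L : List ℕ) : List ℕ := L.map fun x => Cfsg.Agent.Lib.H17.Y522Q.tabOf (gen x)

theorem tw_mem (L : List ℕ) : ∀ t ∈ tw L, t ∈ Cfsg.Agent.Lib.H17.Y522Q.tabs := by
  intro t ht
  obtain ⟨x, -, rfl⟩ := List.mem_map.mp ht
  exact Cfsg.Agent.Lib.H17.Y522Q.tabOf_mem _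

theorem φ_e (L : List ℕ) : Cfsg.Agent.Lib.H17.Y522Q.φ (e L) = ((tw L).map (σ 11 2048 1080)).prod := by
  induction L with
  | nil => simp [e, tw]
  | cons x L ih =>
    rw [e_cons, map_mul, ih, Cfsg.Agent.Lib.H17.Y522Q.φ_of]
    simp only [tw, List.map_cons, List.prod_cons]
    rfl

/-- **The word problem.** A word that fixes the base is trivial. -/
theorem e_eq_one (L : List ℕ) (h : ∀ c ∈ Cfsg.Agent.Lib.H17.Y522Q.sbase, applyT 11 2048 (tw L) c = c) : e L = 1 := by
  apply φ_injective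
  rw [map_one, φ_e]
  have := prod_eq_one_of_base 11 2048 Cfsg.Agent.Lib.H17.Y522Q.P.subtype Cfsg.Agent.Lib.H17.Y522Q.tabs Cfsg.Agent.Lib.H17.Y522Q.good_tabs Cfsg.Agent.Lib.H17.Y522Q.tabs_rep
    Cfsg.Agent.Lib.H17.Y522Q.sbase stab_trivial (tw L) (tw_mem L) h
  exact this

theorem e_eq_e (L1 L2 : List ℕ)
    (h : ∀ c ∈ Cfsg.Agent.Lib.H17.Y522Q.sbase, applyT 11 2048 (tw (L1 ++ L2.reverse)) c = c) : e L1 = e L2 := by
  have := e_eq_one _ h
  rw [e_append, e_reverse] at this
  exact mul_inv_eq_one.mp this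

end Cfsg.Agent.Lib.H17.Y522Ord
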