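import Cfsg.Agent.Lib.H17.Y522Ord.Lv1Cert
import Cfsg.Agent.Lib.H17.Y522Ord.Lv2Cert
import Cfsg.Agent.Lib.H17.Y522Ord.Lv3Cert
import Cfsg.Agent.Lib.H17.Y522Ord.Lv4Cert
import Cfsg.Agent.Lib.H17.Y522Ord.Lv5Cert
import Cfsg.Agent.Lib.H17.Y522Ord.Lv6Cert
import Cfsg.Agent.Lib.H17.Y522Ord.Lv7Cert
import Cfsg.Agent.Lib.H17.Y522Ord.Lv8Cert
import Cfsg.Agent.Lib.H17.Y522Ord.Lv10Cert

set_option autoImplicit false
set_option maxRecDepth 100000

/-! # Upper bound for the order of Y522 (generated) -/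

namespace Cfsg.Agent.Lib.H17.Y522Ord

open Cfsg.Spor Cfsg.Agent.Lib.H17.CosetCert Cfsg.Agent.Lib.H17.CoxGlue Cfsg.Agent.Lib.H17.Y522Glue Cfsg.Agent.Lib.H17.SubChain

/-- the upper bound for the order -/
theorem card_le : 0 < Nat.card G ∧ Nat.card G ≤ 9904359628800 := by
  have c0 := card_zero γo
  have c1 := card_step γo (by norm_num : 0 ≤ 1) c0 Lv1.level
  have c2 := card_step γo (by norm_num : 1 ≤ 2) c1 Lv2.level
  have c3 := card_step γo (by norm_num : 2 ≤ 3) c2 Lv3.level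
  have c4 := card_step γo (by norm_num : 3 ≤ 4) c3 Lv4.level
  have c5 := card_step γo (by norm_num : 4 ≤ 5) c4 Lv5.level
  have c6 := card_step γo (by norm_num : 5 ≤ 6) c5 Lv6.level
  have c7 := card_step γo (by norm_num : 6 ≤ 7) c6 Lv7.level
  have c8 := card_step γo (by norm_num : 7 ≤ 8) c7 Lv8.level
  have c10 := card_step γo (by norm_num : 8 ≤ 10) c8 Lv10.level
  rw [K_top, Subgroup.card_top] at c10
  refine ⟨c10.1, le_trans c10.2 (by norm_num)⟩

end Cfsg.Agent.Lib.H17.Y522Ord
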